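import Mathlib
import Groth.Prelude.Def_RDer

/-!
# A small calculus for the comparison maps of `Def_RDer` (helper5)

* homotopy uniqueness of cochain maps from an injective resolution into a complex of injectives,
* naturality of `RDer.homologyComparison` in the complex and in the functor, and its behaviour
  under composition of functors.
-/

set_option autoImplicit false
open CategoryTheory CategoryTheory.Limits HomologicalComplex

namespace Groth.Agent.Lib.Helper5.RDerPaste

universe v₁ v₂ v₃ v₄ u₁ u₂ u₃ u₄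

section HU

variable {A : Type u₁} [Category.{v₁} A] [Abelian A]
variable {Y : A} (I : InjectiveResolution Y) (L : CochainComplex A ℕ) [∀ n, Injective (L.X n)]

/-- auxiliary: degree zero of the null homotopy -/
noncomputable def hz0 (f : I.cocomplex ⟶ L) (comm : I.ι ≫ f = 0) : I.cocomplex.X 1 ⟶ L.X 0 :=
  I.exact₀.descToInjective (f.f 0) (congr_fun (congr_arg HomologicalComplex.Hom.f comm) 0)

@[reassoc (attr := simp)]
lemma comp_hz0 (f : I.cocomplex ⟶ L) (comm : I.ι ≫ f = 0) :
    I.cocomplex.d 0 1 ≫ hz0 I L f comm = f.f 0 :=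
  I.exact₀.comp_descToInjective _ _

/-- auxiliary: degree one of the null homotopy -/
noncomputable def hz1 (f : I.cocomplex ⟶ L) (comm : I.ι ≫ f = 0) : I.cocomplex.X 2 ⟶ L.X 1 :=
  (I.exact_succ 0).descToInjective (f.f 1 - hz0 I L f comm ≫ L.d 0 1)
    (by rw [Preadditive.comp_sub, comp_hz0_assoc I L f comm, HomologicalComplex.Hom.comm, sub_self])

@[reassoc (attr := simp)]
lemma comp_hz1 (f : I.cocomplex ⟶ L) (comm : I.ι ≫ f = 0) :
    I.cocomplex.d 1 2 ≫ hz1 I L f comm = f.f 1 - hz0 I L f comm ≫ L.d 0 1 :=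
  (I.exact_succ 0).comp_descToInjective _ _

/-- auxiliary: inductive step of the null homotopy -/
noncomputable def hzSucc (f : I.cocomplex ⟶ L) (n : ℕ) (g : I.cocomplex.X (n + 1) ⟶ L.X n)
    (g' : I.cocomplex.X (n + 2) ⟶ L.X (n + 1))
    (w : f.f (n + 1) = I.cocomplex.d (n + 1) (n + 2) ≫ g' + g ≫ L.d n (n + 1)) :
    I.cocomplex.X (n + 3) ⟶ L.X (n + 2) :=
  (I.exact_succ (n + 1)).descToInjective (f.f (n + 2) - g' ≫ L.d _ _) (by
      dsimp
      rw [Preadditive.comp_sub, ← HomologicalComplex.Hom.comm, w, Preadditive.add_comp,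
        Category.assoc, Category.assoc, HomologicalComplex.d_comp_d, comp_zero,
        add_zero, sub_self])

@[reassoc (attr := simp)]
lemma comp_hzSucc (f : I.cocomplex ⟶ L) (n : ℕ) (g : I.cocomplex.X (n + 1) ⟶ L.X n)
    (g' : I.cocomplex.X (n + 2) ⟶ L.X (n + 1))
    (w : f.f (n + 1) = I.cocomplex.d (n + 1) (n + 2) ≫ g' + g ≫ L.d n (n + 1)) :
    I.cocomplex.d (n + 2) (n + 3) ≫ hzSucc I L f n g g' w = f.f (n + 2) - g' ≫ L.d _ _ :=
  (I.exact_succ (n + 1)).comp_descToInjective _ _

/-- a cochain map from an injective resolution to a complex of injective objects which kills the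
augmentation is null homotopic -/
noncomputable def homotopyZero (f : I.cocomplex ⟶ L) (comm : I.ι ≫ f = 0) : Homotopy f 0 :=
  Homotopy.mkCoinductive _ (hz0 I L f comm) (by simp)
    (hz1 I L f comm) (by simp) (fun n ⟨g, g', w⟩ =>
    ⟨hzSucc I L f n g g' (by simp only [w, add_comm]), by simp⟩)

/-- two cochain maps from an injective resolution to a complex of injectives which agree on the
augmentation induce the same map on the homology of the image under any additive functor -/
theorem homologyMap_map_eq {C : Type u₃} [Category.{v₃} C] [Abelian C] (Ψ : A ⥤ C) [Ψ.Additive]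
    (a b : I.cocomplex ⟶ L) (h : I.ι ≫ a = I.ι ≫ b) (q : ℕ) :
    HomologicalComplex.homologyMap ((Ψ.mapHomologicalComplex _).map a) q =
      HomologicalComplex.homologyMap ((Ψ.mapHomologicalComplex _).map b) q := by
  have h0 : Homotopy (a - b) 0 :=
    homotopyZero I L (a - b) (by rw [Preadditive.comp_sub, h, sub_self])
  have h1 : Homotopy a b := Homotopy.equivSubZero.invFun h0
  exact (Ψ.mapHomotopy h1).homologyMap_eq q

end HU

section HC

variable {B : Type u₂} [Category.{v₂} B] [Abelian B] {C : Type u₃} [Category.{v₃} C] [Abelian C]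
  {D : Type u₄} [Category.{v₄} D] [Abelian D]
  {ι' : Type*} {c : ComplexShape ι'}

lemma cyclesMap_cyclesComparison (Ψ : B ⥤ C) [Ψ.Additive] [PreservesFiniteLimits Ψ]
    {K K' : HomologicalComplex B c} (u : K ⟶ K') (i : ι') :
    cyclesMap ((Ψ.mapHomologicalComplex c).map u) i ≫ RDer.cyclesComparison Ψ K' i =
      RDer.cyclesComparison Ψ K i ≫ Ψ.map (cyclesMap u i) := by
  rw [← cancel_mono (Ψ.map (K'.iCycles i)), Category.assoc, RDer.cyclesComparison_i]
  erw [cyclesMap_i]
  rw [Category.assoc, ← Ψ.map_comp, cyclesMap_i, Ψ.map_comp, RDer.cyclesComparison_i_assoc]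
  rfl

lemma homologyMap_homologyComparison (Ψ : B ⥤ C) [Ψ.Additive] [PreservesFiniteLimits Ψ]
    {K K' : HomologicalComplex B c} (u : K ⟶ K') (i : ι') :
    homologyMap ((Ψ.mapHomologicalComplex c).map u) i ≫ RDer.homologyComparison Ψ K' i =
      RDer.homologyComparison Ψ K i ≫ Ψ.map (homologyMap u i) := by
  rw [← cancel_epi (((Ψ.mapHomologicalComplex c).obj K).homologyπ i), homologyπ_naturality_assoc,
    RDer.homologyπ_homologyComparison, RDer.homologyπ_homologyComparison_assoc, ← Ψ.map_comp,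
    homologyπ_naturality, Ψ.map_comp, ← Category.assoc, cyclesMap_cyclesComparison, Category.assoc]

lemma cyclesMap_app_cyclesComparison {Ψ Ψ' : B ⥤ C} [Ψ.Additive] [Ψ'.Additive]
    [PreservesFiniteLimits Ψ] [PreservesFiniteLimits Ψ'] (τ : Ψ ⟶ Ψ')
    (K : HomologicalComplex B c) (i : ι') :
    cyclesMap ((NatTrans.mapHomologicalComplex τ c).app K) i ≫ RDer.cyclesComparison Ψ' K i =
      RDer.cyclesComparison Ψ K i ≫ τ.app (K.cycles i) := by
  rw [← cancel_mono (Ψ'.map (K.iCycles i)), Category.assoc, RDer.cyclesComparison_i]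
  erw [cyclesMap_i]
  rw [Category.assoc, ← τ.naturality, RDer.cyclesComparison_i_assoc]
  rfl

lemma homologyMap_app_homologyComparison {Ψ Ψ' : B ⥤ C} [Ψ.Additive] [Ψ'.Additive]
    [PreservesFiniteLimits Ψ] [PreservesFiniteLimits Ψ'] (τ : Ψ ⟶ Ψ')
    (K : HomologicalComplex B c) (i : ι') :
    homologyMap ((NatTrans.mapHomologicalComplex τ c).app K) i ≫ RDer.homologyComparison Ψ' K i =
      RDer.homologyComparison Ψ K i ≫ τ.app (K.homology i) := by
  rw [← cancel_epi (((Ψ.mapHomologicalComplex c).obj K).homologyπ i), homologyπ_naturality_assoc,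
    RDer.homologyπ_homologyComparison, RDer.homologyπ_homologyComparison_assoc, τ.naturality,
    ← Category.assoc, cyclesMap_app_cyclesComparison, Category.assoc]

lemma cyclesComparison_comp (Ψ₁ : B ⥤ C) [Ψ₁.Additive] [PreservesFiniteLimits Ψ₁]
    (Ψ₂ : C ⥤ D) [Ψ₂.Additive] [PreservesFiniteLimits Ψ₂]
    (K : HomologicalComplex B c) (i : ι') :
    RDer.cyclesComparison (Ψ₁ ⋙ Ψ₂) K i =
      RDer.cyclesComparison Ψ₂ ((Ψ₁.mapHomologicalComplex c).obj K) i ≫
        Ψ₂.map (RDer.cyclesComparison Ψ₁ K i) := by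
  rw [← cancel_mono ((Ψ₁ ⋙ Ψ₂).map (K.iCycles i)), RDer.cyclesComparison_i]
  have key : (RDer.cyclesComparison Ψ₂ ((Ψ₁.mapHomologicalComplex c).obj K) i ≫
        Ψ₂.map (RDer.cyclesComparison Ψ₁ K i)) ≫ Ψ₂.map (Ψ₁.map (K.iCycles i)) =
      ((Ψ₂.mapHomologicalComplex c).obj ((Ψ₁.mapHomologicalComplex c).obj K)).iCycles i := by
    rw [Category.assoc, ← Ψ₂.map_comp, RDer.cyclesComparison_i]
    exact RDer.cyclesComparison_i Ψ₂ ((Ψ₁.mapHomologicalComplex c).obj K) i
  exact key.symm

lemma homologyComparison_comp (Ψ₁ : B ⥤ C) [Ψ₁.Additive] [PreservesFiniteLimits Ψ₁]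
    (Ψ₂ : C ⥤ D) [Ψ₂.Additive] [PreservesFiniteLimits Ψ₂]
    (K : HomologicalComplex B c) (i : ι') :
    RDer.homologyComparison (Ψ₁ ⋙ Ψ₂) K i =
      RDer.homologyComparison Ψ₂ ((Ψ₁.mapHomologicalComplex c).obj K) i ≫
        Ψ₂.map (RDer.homologyComparison Ψ₁ K i) := by
  rw [← cancel_epi ((((Ψ₁ ⋙ Ψ₂).mapHomologicalComplex c).obj K).homologyπ i),
    RDer.homologyπ_homologyComparison, cyclesComparison_comp]
  have key : ((Ψ₂.mapHomologicalComplex c).obj ((Ψ₁.mapHomologicalComplex c).obj K)).homologyπ i ≫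
      RDer.homologyComparison Ψ₂ ((Ψ₁.mapHomologicalComplex c).obj K) i ≫
        Ψ₂.map (RDer.homologyComparison Ψ₁ K i) =
      (RDer.cyclesComparison Ψ₂ ((Ψ₁.mapHomologicalComplex c).obj K) i ≫
        Ψ₂.map (RDer.cyclesComparison Ψ₁ K i)) ≫ Ψ₂.map (Ψ₁.map (K.homologyπ i)) := by
    rw [RDer.homologyπ_homologyComparison_assoc, ← Ψ₂.map_comp, RDer.homologyπ_homologyComparison,
      Ψ₂.map_comp, Category.assoc]
  exact key.symm

end HC

end Groth.Agent.Lib.Helper5.RDerPaste
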