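import Mathlib
import Groth.Prelude.Def_EtBase

/-!
# Coherence of the composition isomorphisms of étale direct images (helper5)
-/

set_option autoImplicit false
universe u
open CategoryTheory CategoryTheory.Limits AlgebraicGeometry Opposite

namespace Groth.Agent.Lib.Helper5.RDerPaste

open EtCoh

@[reassoc]
lemma etale_comp_left {X : Scheme.{u}} {A B C : X.Etale} (φ : A ⟶ B) (ψ : B ⟶ C) :
    (φ ≫ ψ).left = φ.left ≫ ψ.left := rfl

/-- the projection `V ×_B A ⟶ V` -/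
noncomputable def pr {A B : Scheme.{u}} (p : A ⟶ B) (V : B.Etale) :
    ((bc p).obj V).left ⟶ V.left := pullback.fst V.hom p

@[reassoc]
lemma pr_hom {A B : Scheme.{u}} (p : A ⟶ B) (V : B.Etale) :
    pr p V ≫ V.hom = ((bc p).obj V).hom ≫ p := pullback.condition

@[reassoc (attr := simp)]
lemma bc_map_left_pr {A B : Scheme.{u}} (p : A ⟶ B) {V V' : B.Etale} (φ : V ⟶ V') :
    ((bc p).map φ).left ≫ pr p V' = pr p V ≫ φ.left := by
  dsimp [bc, pr]
  exact pullback.lift_fst _ _ _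

/-- `(r ≫ p)^* V ⟶ r^* p^* V` -/
noncomputable def pcHom {A B C : Scheme.{u}} (r : A ⟶ B) (p : B ⟶ C) (V : C.Etale) :
    (bc (r ≫ p)).obj V ⟶ (bc r).obj ((bc p).obj V) :=
  (MorphismProperty.Over.pullbackComp (P := etaleMP) (Q := ⊤) r p).hom.app V

/-- `r^* p^* V ⟶ (r ≫ p)^* V` -/
noncomputable def pcInv {A B C : Scheme.{u}} (r : A ⟶ B) (p : B ⟶ C) (V : C.Etale) :
    (bc r).obj ((bc p).obj V) ⟶ (bc (r ≫ p)).obj V :=
  (MorphismProperty.Over.pullbackComp (P := etaleMP) (Q := ⊤) r p).inv.app V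

/-- `p'^* V ⟶ p^* V` for `p = p'` -/
noncomputable def pgInv {A B : Scheme.{u}} {p p' : A ⟶ B} (h : p = p') (V : B.Etale) :
    (bc p').obj V ⟶ (bc p).obj V :=
  (MorphismProperty.Over.pullbackCongr (P := etaleMP) (Q := ⊤) h).inv.app V

/-- `p^* V ⟶ p'^* V` for `p = p'` -/
noncomputable def pgHom {A B : Scheme.{u}} {p p' : A ⟶ B} (h : p = p') (V : B.Etale) :
    (bc p).obj V ⟶ (bc p').obj V :=
  (MorphismProperty.Over.pullbackCongr (P := etaleMP) (Q := ⊤) h).hom.app V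

lemma pcInv_pcHom {A B C : Scheme.{u}} (r : A ⟶ B) (p : B ⟶ C) (V : C.Etale) :
    pcInv r p V ≫ pcHom r p V = 𝟙 _ :=
  Iso.inv_hom_id_app (MorphismProperty.Over.pullbackComp (P := etaleMP) (Q := ⊤) r p) V

lemma pgInv_pgHom {A B : Scheme.{u}} {p p' : A ⟶ B} (h : p = p') (V : B.Etale) :
    pgInv h V ≫ pgHom h V = 𝟙 _ :=
  Iso.inv_hom_id_app (MorphismProperty.Over.pullbackCongr (P := etaleMP) (Q := ⊤) h) V

@[reassoc (attr := simp)]
lemma pcHom_pr {A B C : Scheme.{u}} (r : A ⟶ B) (p : B ⟶ C) (V : C.Etale) :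
    (pcHom r p V).left ≫ pr r ((bc p).obj V) ≫ pr p V = pr (r ≫ p) V :=
  MorphismProperty.Over.pullbackComp_left_fst_fst r p V

@[reassoc (attr := simp)]
lemma pcInv_pr {A B C : Scheme.{u}} (r : A ⟶ B) (p : B ⟶ C) (V : C.Etale) :
    (pcInv r p V).left ≫ pr (r ≫ p) V = pr r ((bc p).obj V) ≫ pr p V := by
  calc (pcInv r p V).left ≫ pr (r ≫ p) V
      = (pcInv r p V).left ≫ (pcHom r p V).left ≫ pr r ((bc p).obj V) ≫ pr p V := by
        rw [pcHom_pr]
    _ = (pcInv r p V ≫ pcHom r p V).left ≫ pr r ((bc p).obj V) ≫ pr p V := by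
        rw [etale_comp_left, Category.assoc]
    _ = pr r ((bc p).obj V) ≫ pr p V := by
        rw [pcInv_pcHom]
        exact Category.id_comp _

@[reassoc (attr := simp)]
lemma pgHom_pr {A B : Scheme.{u}} {p p' : A ⟶ B} (h : p = p') (V : B.Etale) :
    (pgHom h V).left ≫ pr p' V = pr p V :=
  MorphismProperty.Over.pullbackCongr_hom_app_left_fst h V

@[reassoc (attr := simp)]
lemma pgInv_pr {A B : Scheme.{u}} {p p' : A ⟶ B} (h : p = p') (V : B.Etale) :
    (pgInv h V).left ≫ pr p V = pr p' V := by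
  calc (pgInv h V).left ≫ pr p V
      = (pgInv h V).left ≫ (pgHom h V).left ≫ pr p' V := by rw [pgHom_pr]
    _ = (pgInv h V ≫ pgHom h V).left ≫ pr p' V := by
        rw [etale_comp_left, Category.assoc]
    _ = pr p' V := by
        rw [pgInv_pgHom]
        exact Category.id_comp _

/-- scheme morphisms into a base change are determined by the two projections -/
lemma hom_ext_pr {A B : Scheme.{u}} (p : A ⟶ B) (V : B.Etale) {T : Scheme.{u}}
    (a b : T ⟶ ((bc p).obj V).left) (h₁ : a ≫ pr p V = b ≫ pr p V)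
    (h₂ : a ≫ ((bc p).obj V).hom = b ≫ ((bc p).obj V).hom) : a = b :=
  pullback.hom_ext h₁ h₂

lemma etale_hom_ext3 {S T Y Z : Scheme.{u}} (g : T ⟶ S) (e : Y ⟶ T) (k : Z ⟶ Y) (U : S.Etale)
    {A : Z.Etale} (Φ Ψ : A ⟶ (bc k).obj ((bc e).obj ((bc g).obj U)))
    (h : Φ.left ≫ pr k ((bc e).obj ((bc g).obj U)) ≫ pr e ((bc g).obj U) ≫ pr g U =
      Ψ.left ≫ pr k ((bc e).obj ((bc g).obj U)) ≫ pr e ((bc g).obj U) ≫ pr g U) : Φ = Ψ := by
  apply MorphismProperty.Over.Hom.ext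
  have hw : Φ.left ≫ ((bc k).obj ((bc e).obj ((bc g).obj U))).hom =
      Ψ.left ≫ ((bc k).obj ((bc e).obj ((bc g).obj U))).hom := by
    rw [MorphismProperty.Over.w, MorphismProperty.Over.w]
  refine hom_ext_pr k _ _ _ ?_ hw
  refine hom_ext_pr e _ _ _ ?_ ?_
  · refine hom_ext_pr g _ _ _ ?_ ?_
    · simpa only [Category.assoc] using h
    · simp only [Category.assoc, pr_hom, pr_hom_assoc, MorphismProperty.Over.w_assoc]
  · simp only [Category.assoc, pr_hom, MorphismProperty.Over.w_assoc]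

lemma c2_aux {X S Y T W Z : Scheme.{u}} (f : X ⟶ S) (g : T ⟶ S) (h : Y ⟶ X) (e : Y ⟶ T)
    (w : e ≫ g = h ≫ f) (i : W ⟶ X) (j : Z ⟶ W) (k : Z ⟶ Y) (w' : k ≫ h = j ≫ i)
    (w'' : (k ≫ e) ≫ g = j ≫ (i ≫ f)) (M : EtCoh.Ab Z) (V : S.Etale) :
    M.obj.map (pcHom k e ((bc g).obj V)).op ≫ M.obj.map (pcHom (k ≫ e) g V).op ≫
      M.obj.map (pgInv w'' V).op ≫ M.obj.map (pcInv j (i ≫ f) V).op ≫
        M.obj.map ((bc j).map (pcInv i f V)).op =
    M.obj.map ((bc k).map (pcHom e g V)).op ≫ M.obj.map ((bc k).map (pgInv w V)).op ≫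
      M.obj.map ((bc k).map (pcInv h f V)).op ≫ M.obj.map (pcHom k h ((bc f).obj V)).op ≫
        M.obj.map (pgInv w' ((bc f).obj V)).op ≫ M.obj.map (pcInv j i ((bc f).obj V)).op := by
  simp only [← Functor.map_comp, ← op_comp]
  congr 2
  apply etale_hom_ext3 g e k V
  simp only [etale_comp_left, Category.assoc, pcHom_pr, pcHom_pr_assoc,
    pcInv_pr, pcInv_pr_assoc, pgInv_pr, pgInv_pr_assoc, bc_map_left_pr, bc_map_left_pr_assoc]

theorem c2 {X S Y T W Z : Scheme.{u}} (f : X ⟶ S) (g : T ⟶ S) (h : Y ⟶ X) (e : Y ⟶ T)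
    (w : e ≫ g = h ≫ f) (i : W ⟶ X) (j : Z ⟶ W) (k : Z ⟶ Y) (w' : k ≫ h = j ≫ i)
    (w'' : (k ≫ e) ≫ g = j ≫ (i ≫ f)) (M : EtCoh.Ab Z) :
    (push g).map ((pushComp e k).hom.app M) ≫
      (pushComp g (k ≫ e) ≪≫ pushCongr w'' ≪≫ (pushComp (i ≫ f) j).symm).hom.app M ≫
        (pushComp f i).inv.app ((push j).obj M) =
    (pushComp g e ≪≫ pushCongr w ≪≫ (pushComp f h).symm).hom.app ((push k).obj M) ≫
      (push f).map ((pushComp h k ≪≫ pushCongr w' ≪≫ (pushComp i j).symm).hom.app M) := by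
  ext U : 3
  simp [pushComp, pushCongr]
  exact c2_aux f g h e w i j k w' w'' M (unop U)

end Groth.Agent.Lib.Helper5.RDerPaste
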