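import Mathlib
import Groth.Prelude.Def_RDer
import Groth.Agent.Lib.Helper5.RDerPaste.Basic

/-!
# Complex level formulas for the edge maps and for the base change map in adjoint form (helper5)
-/

set_option autoImplicit false
open CategoryTheory CategoryTheory.Limits HomologicalComplex

namespace Groth.Agent.Lib.Helper5.RDerPaste

universe v₁ v₂ v₃ v₄ u₁ u₂ u₃ u₄

section

variable {A : Type u₁} [Category.{v₁} A] [Abelian A] [HasInjectiveResolutions A]
  {B : Type u₂} [Category.{v₂} B] [Abelian B] [HasInjectiveResolutions B]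
  {C : Type u₃} [Category.{v₃} C] [Abelian C]

/-- a cochain map `a : I_Y ⟶ Φ I_X` lies over `φ : Y ⟶ Φ X` -/
def IsLift (Φ : A ⥤ B) [Φ.Additive] {X : A} {Y : B} (φ : Y ⟶ Φ.obj X)
    (a : (injectiveResolution Y).cocomplex ⟶
      (Φ.mapHomologicalComplex _).obj (injectiveResolution X).cocomplex) : Prop :=
  (injectiveResolution Y).ι ≫ a =
    (CochainComplex.single₀ B).map φ ≫ RDer.mapAug Φ (injectiveResolution X).ι

lemma ι_descToInjectives (Φ : A ⥤ B) [Φ.Additive] [Φ.PreservesInjectiveObjects] (X : A) :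
    (injectiveResolution (Φ.obj X)).ι ≫
      RDer.descToInjectives (𝟙 (Φ.obj X)) (injectiveResolution (Φ.obj X)).cocomplex
        (injectiveResolution (Φ.obj X)).ι
        ((Φ.mapHomologicalComplex _).obj (injectiveResolution X).cocomplex)
        (RDer.mapAug Φ (injectiveResolution X).ι) =
      RDer.mapAug Φ (injectiveResolution X).ι := by
  apply HomologicalComplex.from_single_hom_ext
  rw [HomologicalComplex.comp_f]
  exact (RDer.ι_descToInjectives_f_zero (𝟙 (Φ.obj X)) (injectiveResolution (Φ.obj X)).cocomplex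
    (injectiveResolution (Φ.obj X)).ι _ _).trans (Category.id_comp _)

/-- lifts exist -/
lemma exists_isLift (Φ : A ⥤ B) [Φ.Additive] [Φ.PreservesInjectiveObjects] {X : A} {Y : B}
    (φ : Y ⟶ Φ.obj X) : ∃ a, IsLift Φ φ a := by
  refine ⟨InjectiveResolution.desc φ (injectiveResolution (Φ.obj X)) (injectiveResolution Y) ≫
    RDer.descToInjectives (𝟙 (Φ.obj X)) (injectiveResolution (Φ.obj X)).cocomplex
        (injectiveResolution (Φ.obj X)).ι
        ((Φ.mapHomologicalComplex _).obj (injectiveResolution X).cocomplex)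
        (RDer.mapAug Φ (injectiveResolution X).ι), ?_⟩
  unfold IsLift
  rw [← Category.assoc, InjectiveResolution.desc_commutes, Category.assoc, ι_descToInjectives]

/-- the first edge map after `R^q Ψ` of a morphism, computed by any lift -/
theorem rightDerived_map_edgeIn (Φ : A ⥤ B) [Φ.Additive] [Φ.PreservesInjectiveObjects]
    (Ψ : B ⥤ C) [Ψ.Additive] (q : ℕ) {X : A} {Y : B} (φ : Y ⟶ Φ.obj X)
    (a : (injectiveResolution Y).cocomplex ⟶
      (Φ.mapHomologicalComplex _).obj (injectiveResolution X).cocomplex) (ha : IsLift Φ φ a) :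
    (Ψ.rightDerived q).map φ ≫ RDer.edgeIn Φ Ψ q X =
      ((injectiveResolution Y).isoRightDerivedObj Ψ q).hom ≫
        HomologicalComplex.homologyMap ((Ψ.mapHomologicalComplex _).map a) q ≫
        ((injectiveResolution X).isoRightDerivedObj (Φ ⋙ Ψ) q).inv := by
  let ψ : (injectiveResolution Y).cocomplex ⟶ (injectiveResolution (Φ.obj X)).cocomplex :=
    InjectiveResolution.desc φ (injectiveResolution (Φ.obj X)) (injectiveResolution Y)
  have hψ : (injectiveResolution Y).ι ≫ ψ =
      (CochainComplex.single₀ B).map φ ≫ (injectiveResolution (Φ.obj X)).ι :=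
    InjectiveResolution.desc_commutes φ _ _
  have hh : homologyMap ((Ψ.mapHomologicalComplex _).map (ψ ≫
      RDer.descToInjectives (𝟙 (Φ.obj X)) (injectiveResolution (Φ.obj X)).cocomplex
        (injectiveResolution (Φ.obj X)).ι
        ((Φ.mapHomologicalComplex _).obj (injectiveResolution X).cocomplex)
        (RDer.mapAug Φ (injectiveResolution X).ι))) q =
      homologyMap ((Ψ.mapHomologicalComplex _).map a) q :=
    homologyMap_map_eq (injectiveResolution Y) _ Ψ _ a
      (by rw [← Category.assoc, hψ, Category.assoc, ι_descToInjectives]; exact ha.symm) q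
  rw [Functor.rightDerived_map_eq Ψ q φ ψ hψ]
  unfold RDer.edgeIn
  simp only [Category.assoc, Iso.inv_hom_id_assoc]
  have key : (Ψ.mapHomologicalComplex _ ⋙ HomologicalComplex.homologyFunctor C _ q).map ψ ≫
      (HomologicalComplex.homologyFunctor C _ q).map ((Ψ.mapHomologicalComplex _).map
        (RDer.descToInjectives (𝟙 (Φ.obj X)) (injectiveResolution (Φ.obj X)).cocomplex
          (injectiveResolution (Φ.obj X)).ι
          ((Φ.mapHomologicalComplex _).obj (injectiveResolution X).cocomplex)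
          (RDer.mapAug Φ (injectiveResolution X).ι))) =
      homologyMap ((Ψ.mapHomologicalComplex _).map a) q := by
    rw [← hh, Functor.map_comp, homologyMap_comp]
    rfl
  congr 1
  exact (Category.assoc _ _ _).symm.trans (congrArg
    (fun t => t ≫ ((injectiveResolution X).isoRightDerivedObj (Φ ⋙ Ψ) q).inv) key)

end

section

variable {A : Type u₁} [Category.{v₁} A] [Abelian A] [HasInjectiveResolutions A]
  {B : Type u₂} [Category.{v₂} B] [Abelian B] [HasInjectiveResolutions B]
  {A' : Type u₃} [Category.{v₃} A'] [Abelian A'] [HasInjectiveResolutions A']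
  {B' : Type u₄} [Category.{v₄} B'] [Abelian B'] [HasInjectiveResolutions B']

/-- the abstract base change map in adjoint form `R^q f_* F ⟶ g_* R^q f'_* (g'^* F)` -/
noncomputable def bcAdj (Φf : A ⥤ B) [Φf.Additive] (Φg' : A' ⥤ A) [Φg'.Additive]
    [Φg'.PreservesInjectiveObjects] (Φf' : A' ⥤ B') [Φf'.Additive] (Φg : B' ⥤ B) [Φg.Additive]
    [PreservesFiniteLimits Φg] {Lg' : A ⥤ A'} (adj : Lg' ⊣ Φg') (α : Φg' ⋙ Φf ≅ Φf' ⋙ Φg)
    (q : ℕ) (F : A) :
    (Φf.rightDerived q).obj F ⟶ Φg.obj ((Φf'.rightDerived q).obj (Lg'.obj F)) :=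
  (Φf.rightDerived q).map (adj.unit.app F) ≫ RDer.edgeIn Φg' Φf q (Lg'.obj F) ≫
    (RDer.rightDerivedIso α q).hom.app (Lg'.obj F) ≫ RDer.edgeOut Φf' Φg q (Lg'.obj F)

/-- complex level formula for `bcAdj` -/
theorem bcAdj_eq (Φf : A ⥤ B) [Φf.Additive] (Φg' : A' ⥤ A) [Φg'.Additive]
    [Φg'.PreservesInjectiveObjects] (Φf' : A' ⥤ B') [Φf'.Additive] (Φg : B' ⥤ B) [Φg.Additive]
    [PreservesFiniteLimits Φg] {Lg' : A ⥤ A'} (adj : Lg' ⊣ Φg') (α : Φg' ⋙ Φf ≅ Φf' ⋙ Φg)
    (q : ℕ) (F : A)
    (a : (injectiveResolution F).cocomplex ⟶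
      (Φg'.mapHomologicalComplex _).obj (injectiveResolution (Lg'.obj F)).cocomplex)
    (ha : IsLift Φg' (adj.unit.app F) a) :
    bcAdj Φf Φg' Φf' Φg adj α q F =
      ((injectiveResolution F).isoRightDerivedObj Φf q).hom ≫
        HomologicalComplex.homologyMap ((Φf.mapHomologicalComplex _).map a) q ≫
        HomologicalComplex.homologyMap ((NatTrans.mapHomologicalComplex α.hom _).app
          (injectiveResolution (Lg'.obj F)).cocomplex) q ≫
        RDer.homologyComparison Φg ((Φf'.mapHomologicalComplex _).obj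
          (injectiveResolution (Lg'.obj F)).cocomplex) q ≫
        Φg.map ((injectiveResolution (Lg'.obj F)).isoRightDerivedObj Φf' q).inv := by
  unfold bcAdj
  rw [← Category.assoc, rightDerived_map_edgeIn Φg' Φf q (adj.unit.app F) a ha]
  have h2 : (RDer.rightDerivedIso α q).hom.app (Lg'.obj F) =
      ((injectiveResolution (Lg'.obj F)).isoRightDerivedObj (Φg' ⋙ Φf) q).hom ≫
        (HomologicalComplex.homologyFunctor B (ComplexShape.up ℕ) q).map
          ((NatTrans.mapHomologicalComplex α.hom _).app (injectiveResolution (Lg'.obj F)).cocomplex) ≫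
        ((injectiveResolution (Lg'.obj F)).isoRightDerivedObj (Φf' ⋙ Φg) q).inv :=
    InjectiveResolution.rightDerived_app_eq α.hom (injectiveResolution (Lg'.obj F)) q
  rw [h2]
  unfold RDer.edgeOut
  dsimp only [Functor.id_obj, Functor.comp_obj]
  simp only [Category.assoc, Iso.inv_hom_id_assoc]
  erw [Iso.inv_hom_id_assoc]
  rfl

end

end Groth.Agent.Lib.Helper5.RDerPaste
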