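import Mathlib
import Groth.Prelude.Def_RDer
import Groth.Agent.Lib.Helper5.RDerPaste.Formula

/-!
# Vertical pasting of base change maps in adjoint form (helper5)
-/

set_option autoImplicit false
open CategoryTheory CategoryTheory.Limits HomologicalComplex

namespace Groth.Agent.Lib.Helper5.RDerPaste

universe v₁ v₂ v₃ v₄ u₁ u₂ u₃ u₄

section Lift0

variable {A : Type u₁} [Category.{v₁} A] [Abelian A] [HasInjectiveResolutions A]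
  {B : Type u₂} [Category.{v₂} B] [Abelian B] [HasInjectiveResolutions B]

lemma mapAug_f_zero (Φ : A ⥤ B) [Φ.Additive] {X : A} (I : InjectiveResolution X) :
    (RDer.mapAug Φ I.ι).f 0 = Φ.map (I.ι.f 0) := by
  simp [RDer.mapAug, HomologicalComplex.singleMapHomologicalComplex_inv_app_self]
  exact Category.id_comp _

/-- degree zero characterisation of lifts -/
lemma isLift_iff (Φ : A ⥤ B) [Φ.Additive] {X : A} {Y : B} (φ : Y ⟶ Φ.obj X)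
    (a : (injectiveResolution Y).cocomplex ⟶
      (Φ.mapHomologicalComplex _).obj (injectiveResolution X).cocomplex) :
    IsLift Φ φ a ↔
      (injectiveResolution Y).ι.f 0 ≫ a.f 0 = φ ≫ Φ.map ((injectiveResolution X).ι.f 0) := by
  unfold IsLift
  constructor
  · intro h
    have h0 := HomologicalComplex.congr_hom h 0
    rw [HomologicalComplex.comp_f, HomologicalComplex.comp_f, mapAug_f_zero,
      CochainComplex.single₀_map_f_zero] at h0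
    exact h0
  · intro h
    apply HomologicalComplex.from_single_hom_ext
    rw [HomologicalComplex.comp_f, HomologicalComplex.comp_f, mapAug_f_zero,
      CochainComplex.single₀_map_f_zero]
    exact h

end Lift0

section Tw

variable {𝒜 : Type*} [Category 𝒜] [Abelian 𝒜] {ℬ₁ : Type*} [Category ℬ₁] [Abelian ℬ₁]
  {ℬ₂ : Type*} [Category ℬ₂] [Abelian ℬ₂] {𝒞 : Type*} [Category 𝒞] [Abelian 𝒞]
  {ι' : Type*} {c : ComplexShape ι'}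

/-- termwise natural transformation `Ψ₁ Φ₁ K ⟶ Ψ₂ Φ₂ K` -/
@[simps]
def tw {Φ₁ : 𝒜 ⥤ ℬ₁} {Ψ₁ : ℬ₁ ⥤ 𝒞} {Φ₂ : 𝒜 ⥤ ℬ₂} {Ψ₂ : ℬ₂ ⥤ 𝒞} [Φ₁.Additive] [Ψ₁.Additive]
    [Φ₂.Additive] [Ψ₂.Additive] (τ : Φ₁ ⋙ Ψ₁ ⟶ Φ₂ ⋙ Ψ₂) (K : HomologicalComplex 𝒜 c) :
    (Ψ₁.mapHomologicalComplex c).obj ((Φ₁.mapHomologicalComplex c).obj K) ⟶
      (Ψ₂.mapHomologicalComplex c).obj ((Φ₂.mapHomologicalComplex c).obj K) where
  f n := τ.app (K.X n)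
  comm' i j _ := (τ.naturality (K.d i j)).symm

lemma tw_naturality {Φ₁ : 𝒜 ⥤ ℬ₁} {Ψ₁ : ℬ₁ ⥤ 𝒞} {Φ₂ : 𝒜 ⥤ ℬ₂} {Ψ₂ : ℬ₂ ⥤ 𝒞} [Φ₁.Additive]
    [Ψ₁.Additive] [Φ₂.Additive] [Ψ₂.Additive] (τ : Φ₁ ⋙ Ψ₁ ⟶ Φ₂ ⋙ Ψ₂)
    {K K' : HomologicalComplex 𝒜 c} (u : K ⟶ K') :
    (Ψ₁.mapHomologicalComplex c).map ((Φ₁.mapHomologicalComplex c).map u) ≫ tw τ K' =
      tw τ K ≫ (Ψ₂.mapHomologicalComplex c).map ((Φ₂.mapHomologicalComplex c).map u) := by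
  ext n
  exact τ.naturality (u.f n)

/-- termwise natural transformation `Ψ K ⟶ Ψ₂ Ψ₁ K` -/
@[simps]
def tw2 {Ψ : 𝒜 ⥤ 𝒞} {Ψ₁ : 𝒜 ⥤ ℬ₁} {Ψ₂ : ℬ₁ ⥤ 𝒞} [Ψ.Additive] [Ψ₁.Additive] [Ψ₂.Additive]
    (τ : Ψ ⟶ Ψ₁ ⋙ Ψ₂) (K : HomologicalComplex 𝒜 c) :
    (Ψ.mapHomologicalComplex c).obj K ⟶
      (Ψ₂.mapHomologicalComplex c).obj ((Ψ₁.mapHomologicalComplex c).obj K) where
  f n := τ.app (K.X n)
  comm' i j _ := (τ.naturality (K.d i j)).symm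

/-- termwise natural transformation `Ψ₁ Φ₁ K ⟶ Ψ K` -/
@[simps]
def tw3 {Φ₁ : 𝒜 ⥤ ℬ₁} {Ψ₁ : ℬ₁ ⥤ 𝒞} {Ψ : 𝒜 ⥤ 𝒞} [Φ₁.Additive] [Ψ₁.Additive] [Ψ.Additive]
    (τ : Φ₁ ⋙ Ψ₁ ⟶ Ψ) (K : HomologicalComplex 𝒜 c) :
    (Ψ₁.mapHomologicalComplex c).obj ((Φ₁.mapHomologicalComplex c).obj K) ⟶
      (Ψ.mapHomologicalComplex c).obj K where
  f n := τ.app (K.X n)
  comm' i j _ := (τ.naturality (K.d i j)).symm

lemma homologyComparison_app_comp {Ψ : 𝒜 ⥤ 𝒞} {Ψ₁ : 𝒜 ⥤ ℬ₁} {Ψ₂ : ℬ₁ ⥤ 𝒞} [Ψ.Additive]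
    [Ψ₁.Additive] [Ψ₂.Additive] [PreservesFiniteLimits Ψ] [PreservesFiniteLimits Ψ₁]
    [PreservesFiniteLimits Ψ₂] (τ : Ψ ⟶ Ψ₁ ⋙ Ψ₂) (K : HomologicalComplex 𝒜 c) (i : ι') :
    RDer.homologyComparison Ψ K i ≫ τ.app (K.homology i) =
      homologyMap (tw2 τ K) i ≫
        RDer.homologyComparison Ψ₂ ((Ψ₁.mapHomologicalComplex c).obj K) i ≫
          Ψ₂.map (RDer.homologyComparison Ψ₁ K i) := by
  have h1 := homologyMap_app_homologyComparison τ K i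
  have h2 := homologyComparison_comp Ψ₁ Ψ₂ K i
  rw [h2] at h1
  exact h1.symm

end Tw

end Groth.Agent.Lib.Helper5.RDerPaste
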