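import Mathlib
import Groth.Prelude.Def_RDer
import Groth.Agent.Lib.Helper5.RDerPaste.Paste

/-!
# Vertical pasting of base change maps in adjoint form, II (helper5)
-/

set_option autoImplicit false
open CategoryTheory CategoryTheory.Limits HomologicalComplex

namespace Groth.Agent.Lib.Helper5.RDerPaste

section Restate

universe v₁ v₂ v₃ v₄ u₁ u₂ u₃ u₄

variable {A : Type u₁} [Category.{v₁} A] [Abelian A] [HasInjectiveResolutions A]
  {B : Type u₂} [Category.{v₂} B] [Abelian B] [HasInjectiveResolutions B]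
  {A' : Type u₃} [Category.{v₃} A'] [Abelian A'] [HasInjectiveResolutions A']
  {B' : Type u₄} [Category.{v₄} B'] [Abelian B'] [HasInjectiveResolutions B']

/-- `R^q Φ X ≅ H^q (Φ I_X)`, typed with `.homology` -/
noncomputable def rdIso (Φ : A ⥤ B) [Φ.Additive] (q : ℕ) (X : A) :
    (Φ.rightDerived q).obj X ≅
      ((Φ.mapHomologicalComplex _).obj (injectiveResolution X).cocomplex).homology q :=
  (injectiveResolution X).isoRightDerivedObj Φ q

lemma rdIso_map (Φ : A ⥤ B) [Φ.Additive] (q : ℕ) {X Y : A} (φ : X ⟶ Y)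
    (φt : (injectiveResolution X).cocomplex ⟶ (injectiveResolution Y).cocomplex)
    (h : (injectiveResolution X).ι ≫ φt =
      (CochainComplex.single₀ A).map φ ≫ (injectiveResolution Y).ι) :
    (rdIso Φ q X).inv ≫ (Φ.rightDerived q).map φ =
      homologyMap ((Φ.mapHomologicalComplex _).map φt) q ≫ (rdIso Φ q Y).inv := by
  have e := Functor.rightDerived_map_eq Φ q φ φt h
  have e2 : ((injectiveResolution X).isoRightDerivedObj Φ q).inv ≫ (Φ.rightDerived q).map φ =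
      (Φ.mapHomologicalComplex _ ⋙ HomologicalComplex.homologyFunctor _ _ q).map φt ≫
        ((injectiveResolution Y).isoRightDerivedObj Φ q).inv := by
    rw [e, Iso.inv_hom_id_assoc]
  exact e2

/-- complex level formula for `bcAdj`, with the termwise transformation `tw` -/
theorem bcAdj_eq' (Φf : A ⥤ B) [Φf.Additive] (Φg' : A' ⥤ A) [Φg'.Additive]
    [Φg'.PreservesInjectiveObjects] (Φf' : A' ⥤ B') [Φf'.Additive] (Φg : B' ⥤ B) [Φg.Additive]
    [PreservesFiniteLimits Φg] {Lg' : A ⥤ A'} (adj : Lg' ⊣ Φg') (α : Φg' ⋙ Φf ≅ Φf' ⋙ Φg)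
    (q : ℕ) (F : A)
    (a : (injectiveResolution F).cocomplex ⟶
      (Φg'.mapHomologicalComplex _).obj (injectiveResolution (Lg'.obj F)).cocomplex)
    (ha : IsLift Φg' (adj.unit.app F) a) :
    bcAdj Φf Φg' Φf' Φg adj α q F =
      (rdIso Φf q F).hom ≫
        HomologicalComplex.homologyMap ((Φf.mapHomologicalComplex _).map a) q ≫
        HomologicalComplex.homologyMap (tw α.hom (injectiveResolution (Lg'.obj F)).cocomplex) q ≫
        RDer.homologyComparison Φg ((Φf'.mapHomologicalComplex _).obj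
          (injectiveResolution (Lg'.obj F)).cocomplex) q ≫
        Φg.map (rdIso Φf' q (Lg'.obj F)).inv :=
  bcAdj_eq Φf Φg' Φf' Φg adj α q F a ha

end Restate

section Generic

variable {𝒲 : Type*} [Category 𝒲] [Abelian 𝒲]
  {𝒳 : Type*} [Category 𝒳] [Abelian 𝒳]
  {𝒮 : Type*} [Category 𝒮] [Abelian 𝒮]

@[reassoc]
lemma L1 (Ψ : 𝒲 ⥤ 𝒮) [Ψ.Additive] [PreservesFiniteLimits Ψ] {ι' : Type*} {c : ComplexShape ι'}
    {K₁ K₂ : HomologicalComplex 𝒲 c} (v : K₁ ⟶ K₂) (i : ι') {R₁ R₂ : 𝒲}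
    (r₁ : R₁ ≅ K₁.homology i) (r₂ : R₂ ≅ K₂.homology i) (m : R₁ ⟶ R₂)
    (e : r₁.inv ≫ m = homologyMap v i ≫ r₂.inv) :
    RDer.homologyComparison Ψ K₁ i ≫ Ψ.map r₁.inv ≫ Ψ.map m =
      homologyMap ((Ψ.mapHomologicalComplex c).map v) i ≫
        RDer.homologyComparison Ψ K₂ i ≫ Ψ.map r₂.inv := by
  rw [← Ψ.map_comp, e, Ψ.map_comp, ← Category.assoc, ← homologyMap_homologyComparison Ψ v i,
    Category.assoc]

@[reassoc]
lemma L2 {Ψ : 𝒲 ⥤ 𝒮} {Ψ₁ : 𝒲 ⥤ 𝒳} {Ψ₂ : 𝒳 ⥤ 𝒮} [Ψ.Additive] [Ψ₁.Additive] [Ψ₂.Additive]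
    [PreservesFiniteLimits Ψ] [PreservesFiniteLimits Ψ₁] [PreservesFiniteLimits Ψ₂]
    (τ : Ψ ⟶ Ψ₁ ⋙ Ψ₂) {ι' : Type*} {c : ComplexShape ι'} (K : HomologicalComplex 𝒲 c) (i : ι')
    {R : 𝒲} (u : K.homology i ⟶ R) :
    RDer.homologyComparison Ψ K i ≫ Ψ.map u ≫ τ.app R =
      homologyMap (tw2 τ K) i ≫
        RDer.homologyComparison Ψ₂ ((Ψ₁.mapHomologicalComplex c).obj K) i ≫
          Ψ₂.map (RDer.homologyComparison Ψ₁ K i) ≫ Ψ₂.map (Ψ₁.map u) := by
  have hn : Ψ.map u ≫ τ.app R = τ.app (K.homology i) ≫ Ψ₂.map (Ψ₁.map u) := τ.naturality u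
  rw [hn, ← Category.assoc, homologyComparison_app_comp τ K i]
  simp only [Category.assoc]

@[reassoc]
lemma R1 (Ψ : 𝒳 ⥤ 𝒮) [Ψ.Additive] [PreservesFiniteLimits Ψ] {ι' : Type*} {c : ComplexShape ι'}
    {K₀ K₁ K₂ : HomologicalComplex 𝒳 c} (u₁ : K₀ ⟶ K₁) (u₂ : K₁ ⟶ K₂) (i : ι') {R T : 𝒳}
    (r : R ≅ K₀.homology i) (t : K₂.homology i ⟶ T) :
    RDer.homologyComparison Ψ K₀ i ≫ Ψ.map r.inv ≫
        Ψ.map (r.hom ≫ homologyMap u₁ i ≫ homologyMap u₂ i ≫ t) =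
      homologyMap ((Ψ.mapHomologicalComplex c).map u₁) i ≫
        homologyMap ((Ψ.mapHomologicalComplex c).map u₂) i ≫
        RDer.homologyComparison Ψ K₂ i ≫ Ψ.map t := by
  rw [← Ψ.map_comp, Iso.inv_hom_id_assoc, Ψ.map_comp, Ψ.map_comp,
    ← Category.assoc, ← homologyMap_homologyComparison Ψ u₁ i, Category.assoc,
    ← Category.assoc (RDer.homologyComparison Ψ K₁ i), ← homologyMap_homologyComparison Ψ u₂ i,
    Category.assoc]

end Generic

section Iota0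

variable {A : Type*} [Category A] [Abelian A] [HasInjectiveResolutions A]
  {B : Type*} [Category B] [Abelian B] [HasInjectiveResolutions B]

/-- the augmentation in degree zero, with source typed as the object itself -/
noncomputable def ι0 {Z : A} (I : InjectiveResolution Z) : Z ⟶ I.cocomplex.X 0 := I.ι.f 0

lemma isLift_iff' (Φ : A ⥤ B) [Φ.Additive] {X : A} {Y : B} (φ : Y ⟶ Φ.obj X)
    (a : (injectiveResolution Y).cocomplex ⟶
      (Φ.mapHomologicalComplex _).obj (injectiveResolution X).cocomplex) :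
    IsLift Φ φ a ↔
      ι0 (injectiveResolution Y) ≫ a.f 0 = φ ≫ Φ.map (ι0 (injectiveResolution X)) :=
  isLift_iff Φ φ a

lemma ι0_comp {X Y : A} (φ : X ⟶ Y)
    (φt : (injectiveResolution X).cocomplex ⟶ (injectiveResolution Y).cocomplex)
    (h : (injectiveResolution X).ι ≫ φt =
      (CochainComplex.single₀ A).map φ ≫ (injectiveResolution Y).ι) :
    ι0 (injectiveResolution X) ≫ φt.f 0 = φ ≫ ι0 (injectiveResolution Y) := by
  have h0 := HomologicalComplex.congr_hom h 0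
  rw [HomologicalComplex.comp_f, HomologicalComplex.comp_f,
    CochainComplex.single₀_map_f_zero] at h0
  exact h0

end Iota0

section Deg0

variable {𝒯 : Type*} [Category 𝒯] {𝒴 : Type*} [Category 𝒴] {𝒵 : Type*} [Category 𝒵]

lemma deg0 (Es : 𝒴 ⥤ 𝒯) (Ks : 𝒵 ⥤ 𝒴) (KEs : 𝒵 ⥤ 𝒯) (β : Ks ⋙ Es ≅ KEs)
    {F P : 𝒯} {Q Q0 : 𝒴} {R R0 R' R'0 : 𝒵} (iF : F ⟶ P) (iQ : Q ⟶ Q0) (iR : R ⟶ R0)
    (iR' : R' ⟶ R'0) (a0 : P ⟶ Es.obj Q0) (b0 : Q0 ⟶ Ks.obj R0) (c0 : P ⟶ KEs.obj R'0)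
    (k0 : R'0 ⟶ R0) (κF : R' ⟶ R) (uE : F ⟶ Es.obj Q) (uK : Q ⟶ Ks.obj R) (uKE : F ⟶ KEs.obj R')
    (ha0 : iF ≫ a0 = uE ≫ Es.map iQ) (hb0 : iQ ≫ b0 = uK ≫ Ks.map iR)
    (hc0 : iF ≫ c0 = uKE ≫ KEs.map iR') (hκ0 : iR' ≫ k0 = κF ≫ iR)
    (hC1 : uKE ≫ KEs.map κF = uE ≫ Es.map uK ≫ β.hom.app R) :
    iF ≫ c0 ≫ KEs.map k0 = iF ≫ a0 ≫ Es.map b0 ≫ β.hom.app R0 := by
  have hβ : Es.map (Ks.map iR) ≫ β.hom.app R0 = β.hom.app R ≫ KEs.map iR := β.hom.naturality iR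
  rw [reassoc_of% hc0, ← KEs.map_comp, hκ0, KEs.map_comp, reassoc_of% hC1,
    reassoc_of% ha0, ← Es.map_comp_assoc, hb0, Es.map_comp_assoc, hβ]

end Deg0

section Main

variable {𝒯 : Type*} [Category 𝒯] [Abelian 𝒯] [HasInjectiveResolutions 𝒯]
  {𝒮 : Type*} [Category 𝒮] [Abelian 𝒮] [HasInjectiveResolutions 𝒮]
  {𝒴 : Type*} [Category 𝒴] [Abelian 𝒴] [HasInjectiveResolutions 𝒴]
  {𝒳 : Type*} [Category 𝒳] [Abelian 𝒳] [HasInjectiveResolutions 𝒳]
  {𝒵 : Type*} [Category 𝒵] [Abelian 𝒵] [HasInjectiveResolutions 𝒵]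
  {𝒲 : Type*} [Category 𝒲] [Abelian 𝒲] [HasInjectiveResolutions 𝒲]
  (Gs : 𝒯 ⥤ 𝒮) (Fs : 𝒳 ⥤ 𝒮) (Hs : 𝒴 ⥤ 𝒳) (Es : 𝒴 ⥤ 𝒯) (Is : 𝒲 ⥤ 𝒳) (Js : 𝒵 ⥤ 𝒲)
  (Ks : 𝒵 ⥤ 𝒴) (KEs : 𝒵 ⥤ 𝒯) (IFs : 𝒲 ⥤ 𝒮)
  [Gs.Additive] [Fs.Additive] [Hs.Additive] [Es.Additive] [Is.Additive] [Js.Additive]
  [Ks.Additive] [KEs.Additive] [IFs.Additive]
  [Es.PreservesInjectiveObjects] [Ks.PreservesInjectiveObjects] [KEs.PreservesInjectiveObjects]
  [PreservesFiniteLimits Fs] [PreservesFiniteLimits Is] [PreservesFiniteLimits IFs]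
  {Le : 𝒯 ⥤ 𝒴} {Lk : 𝒴 ⥤ 𝒵} {Lke : 𝒯 ⥤ 𝒵} (adjE : Le ⊣ Es) (adjK : Lk ⊣ Ks) (adjKE : Lke ⊣ KEs)
  (α₁ : Es ⋙ Gs ≅ Hs ⋙ Fs) (α₂ : Ks ⋙ Hs ≅ Js ⋙ Is) (α₃ : KEs ⋙ Gs ≅ Js ⋙ IFs)
  (β : Ks ⋙ Es ≅ KEs) (γ : Is ⋙ Fs ≅ IFs)

include adjE adjK adjKE in
lemma chain_eq (q : ℕ) (F : 𝒯) (κF : Lke.obj F ⟶ Lk.obj (Le.obj F))
    (hC1 : adjKE.unit.app F ≫ KEs.map κF =
      adjE.unit.app F ≫ Es.map (adjK.unit.app (Le.obj F)) ≫ β.hom.app (Lk.obj (Le.obj F)))
    (hC2 : ∀ Z : 𝒵, Gs.map (β.hom.app Z) ≫ α₃.hom.app Z ≫ γ.inv.app (Js.obj Z) =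
      α₁.hom.app (Ks.obj Z) ≫ Fs.map (α₂.hom.app Z))
    (a : (injectiveResolution F).cocomplex ⟶
      (Es.mapHomologicalComplex _).obj (injectiveResolution (Le.obj F)).cocomplex)
    (ha : IsLift Es (adjE.unit.app F) a)
    (b : (injectiveResolution (Le.obj F)).cocomplex ⟶
      (Ks.mapHomologicalComplex _).obj (injectiveResolution (Lk.obj (Le.obj F))).cocomplex)
    (hb : IsLift Ks (adjK.unit.app (Le.obj F)) b)
    (c : (injectiveResolution F).cocomplex ⟶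
      (KEs.mapHomologicalComplex _).obj (injectiveResolution (Lke.obj F)).cocomplex)
    (hc : IsLift KEs (adjKE.unit.app F) c)
    (κt : (injectiveResolution (Lke.obj F)).cocomplex ⟶
      (injectiveResolution (Lk.obj (Le.obj F))).cocomplex)
    (hκt : (injectiveResolution (Lke.obj F)).ι ≫ κt =
      (CochainComplex.single₀ 𝒵).map κF ≫ (injectiveResolution (Lk.obj (Le.obj F))).ι) :
    homologyMap ((Gs.mapHomologicalComplex _).map c) q ≫
      homologyMap (tw α₃.hom (injectiveResolution (Lke.obj F)).cocomplex) q ≫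
      homologyMap ((IFs.mapHomologicalComplex _).map ((Js.mapHomologicalComplex _).map κt)) q ≫
      homologyMap (tw2 γ.inv ((Js.mapHomologicalComplex _).obj
        (injectiveResolution (Lk.obj (Le.obj F))).cocomplex)) q =
    homologyMap ((Gs.mapHomologicalComplex _).map a) q ≫
      homologyMap (tw α₁.hom (injectiveResolution (Le.obj F)).cocomplex) q ≫
      homologyMap ((Fs.mapHomologicalComplex _).map ((Hs.mapHomologicalComplex _).map b)) q ≫
      homologyMap ((Fs.mapHomologicalComplex _).map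
        (tw α₂.hom (injectiveResolution (Lk.obj (Le.obj F))).cocomplex)) q := by
  have ha0 := (isLift_iff' Es _ a).mp ha
  have hb0 := (isLift_iff' Ks _ b).mp hb
  have hc0 := (isLift_iff' KEs _ c).mp hc
  have hκ0 := ι0_comp κF κt hκt
  have hU : homologyMap ((Gs.mapHomologicalComplex _).map
      (c ≫ (KEs.mapHomologicalComplex _).map κt)) q =
      homologyMap ((Gs.mapHomologicalComplex _).map
        (a ≫ (Es.mapHomologicalComplex _).map b ≫
          tw3 β.hom (injectiveResolution (Lk.obj (Le.obj F))).cocomplex)) q := by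
    haveI : ∀ n, Injective (((KEs.mapHomologicalComplex (ComplexShape.up ℕ)).obj
        (injectiveResolution (Lk.obj (Le.obj F))).cocomplex).X n) := fun n =>
      (inferInstance : Injective (KEs.obj ((injectiveResolution (Lk.obj (Le.obj F))).cocomplex.X n)))
    apply homologyMap_map_eq (injectiveResolution F) _ Gs
    apply HomologicalComplex.from_single_hom_ext
    exact deg0 Es Ks KEs β (ι0 (injectiveResolution F)) (ι0 (injectiveResolution (Le.obj F)))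
      (ι0 (injectiveResolution (Lk.obj (Le.obj F)))) (ι0 (injectiveResolution (Lke.obj F)))
      (a.f 0) (b.f 0) (c.f 0) (κt.f 0) κF (adjE.unit.app F) (adjK.unit.app (Le.obj F))
      (adjKE.unit.app F) ha0 hb0 hc0 hκ0 hC1
  have e1 := tw_naturality α₃.hom κt
  have e2 := tw_naturality α₁.hom b
  have e3 : tw α₁.hom ((Ks.mapHomologicalComplex _).obj
        (injectiveResolution (Lk.obj (Le.obj F))).cocomplex) ≫
      (Fs.mapHomologicalComplex _).map
        (tw α₂.hom (injectiveResolution (Lk.obj (Le.obj F))).cocomplex) =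
      (Gs.mapHomologicalComplex _).map
        (tw3 β.hom (injectiveResolution (Lk.obj (Le.obj F))).cocomplex) ≫
      tw α₃.hom (injectiveResolution (Lk.obj (Le.obj F))).cocomplex ≫
      tw2 γ.inv ((Js.mapHomologicalComplex _).obj
        (injectiveResolution (Lk.obj (Le.obj F))).cocomplex) := by
    ext n
    exact (hC2 _).symm
  simp only [← homologyMap_comp]
  have hL : (Gs.mapHomologicalComplex _).map c ≫
      tw α₃.hom (injectiveResolution (Lke.obj F)).cocomplex ≫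
      (IFs.mapHomologicalComplex _).map ((Js.mapHomologicalComplex _).map κt) ≫
      tw2 γ.inv ((Js.mapHomologicalComplex _).obj
        (injectiveResolution (Lk.obj (Le.obj F))).cocomplex) =
      (Gs.mapHomologicalComplex _).map (c ≫ (KEs.mapHomologicalComplex _).map κt) ≫
      (tw α₃.hom (injectiveResolution (Lk.obj (Le.obj F))).cocomplex ≫
      tw2 γ.inv ((Js.mapHomologicalComplex _).obj
        (injectiveResolution (Lk.obj (Le.obj F))).cocomplex)) := by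
    rw [Functor.map_comp, Category.assoc, reassoc_of% e1]
  have hR : (Gs.mapHomologicalComplex _).map a ≫
      tw α₁.hom (injectiveResolution (Le.obj F)).cocomplex ≫
      (Fs.mapHomologicalComplex _).map ((Hs.mapHomologicalComplex _).map b) ≫
      (Fs.mapHomologicalComplex _).map
        (tw α₂.hom (injectiveResolution (Lk.obj (Le.obj F))).cocomplex) =
      (Gs.mapHomologicalComplex _).map (a ≫ (Es.mapHomologicalComplex _).map b ≫
          tw3 β.hom (injectiveResolution (Lk.obj (Le.obj F))).cocomplex) ≫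
      (tw α₃.hom (injectiveResolution (Lk.obj (Le.obj F))).cocomplex ≫
      tw2 γ.inv ((Js.mapHomologicalComplex _).obj
        (injectiveResolution (Lk.obj (Le.obj F))).cocomplex)) := by
    rw [Functor.map_comp, Functor.map_comp, Category.assoc, Category.assoc, ← e3,
      ← reassoc_of% e2]
  rw [hL, hR, homologyMap_comp, hU, ← homologyMap_comp]

include adjE adjK adjKE in
/-- **Vertical pasting** of base change maps in adjoint form. -/
theorem bcAdj_paste (q : ℕ) (F : 𝒯) (κF : Lke.obj F ⟶ Lk.obj (Le.obj F))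
    (hC1 : adjKE.unit.app F ≫ KEs.map κF =
      adjE.unit.app F ≫ Es.map (adjK.unit.app (Le.obj F)) ≫ β.hom.app (Lk.obj (Le.obj F)))
    (hC2 : ∀ Z : 𝒵, Gs.map (β.hom.app Z) ≫ α₃.hom.app Z ≫ γ.inv.app (Js.obj Z) =
      α₁.hom.app (Ks.obj Z) ≫ Fs.map (α₂.hom.app Z)) :
    bcAdj Gs KEs Js IFs adjKE α₃ q F ≫ IFs.map ((Js.rightDerived q).map κF) ≫
        γ.inv.app ((Js.rightDerived q).obj (Lk.obj (Le.obj F))) =
      bcAdj Gs Es Hs Fs adjE α₁ q F ≫ Fs.map (bcAdj Hs Ks Js Is adjK α₂ q (Le.obj F)) := by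
  obtain ⟨a, ha⟩ := exists_isLift Es (adjE.unit.app F)
  obtain ⟨b, hb⟩ := exists_isLift Ks (adjK.unit.app (Le.obj F))
  obtain ⟨c, hc⟩ := exists_isLift KEs (adjKE.unit.app F)
  have hκt := InjectiveResolution.desc_commutes κF (injectiveResolution (Lk.obj (Le.obj F)))
    (injectiveResolution (Lke.obj F))
  have hch := chain_eq Gs Fs Hs Es Is Js Ks KEs IFs adjE adjK adjKE α₁ α₂ α₃ β γ q F κF hC1 hC2
    a ha b hb c hc _ hκt
  rw [bcAdj_eq' Gs KEs Js IFs adjKE α₃ q F c hc, bcAdj_eq' Gs Es Hs Fs adjE α₁ q F a ha,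
    bcAdj_eq' Hs Ks Js Is adjK α₂ q (Le.obj F) b hb]
  simp only [Category.assoc]
  rw [L1_assoc IFs ((Js.mapHomologicalComplex _).map (InjectiveResolution.desc κF
      (injectiveResolution (Lk.obj (Le.obj F))) (injectiveResolution (Lke.obj F)))) q
      (rdIso Js q (Lke.obj F)) (rdIso Js q (Lk.obj (Le.obj F))) _
      (rdIso_map Js q κF _ hκt)]
  rw [L2 γ.inv]
  rw [R1 Fs]
  rw [reassoc_of% hch, Fs.map_comp]

end Main

end Groth.Agent.Lib.Helper5.RDerPaste
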