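import Mathlib

/-!
# Transposing a pasting identity across composed adjunctions (helper5)
-/

set_option autoImplicit false
open CategoryTheory

namespace Groth.Agent.Lib.Helper5.RDerPaste

variable {A : Type*} [Category A] {B : Type*} [Category B] {C : Type*} [Category C]

theorem isIso_of_paste {Lf : A ⥤ B} {Fs : B ⥤ A} {Li : B ⥤ C} {Is : C ⥤ B} {Lif : A ⥤ C}
    {IFs : C ⥤ A} (adjF : Lf ⊣ Fs) (adjI : Li ⊣ Is) (adjIF : Lif ⊣ IFs) (γ : Is ⋙ Fs ≅ IFs)
    {P : A} {Q : B} {R R' : C} (b₁ : P ⟶ Fs.obj Q) (b₂ : Q ⟶ Is.obj R) (b₃ : P ⟶ IFs.obj R')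
    (u : R' ⟶ R) [IsIso u]
    (hp : b₃ ≫ IFs.map u ≫ γ.inv.app R = b₁ ≫ Fs.map b₂)
    (h1 : IsIso ((adjF.homEquiv _ _).symm b₁)) (h2 : IsIso ((adjI.homEquiv _ _).symm b₂)) :
    IsIso ((adjIF.homEquiv _ _).symm b₃) := by
  let adj' : Lf ⋙ Li ⊣ IFs := (adjF.comp adjI).ofNatIsoRight γ
  let δ := adjIF.leftAdjointUniq adj'
  have key : (adjIF.homEquiv _ _).symm b₃ ≫ u =
      δ.hom.app P ≫ Li.map ((adjF.homEquiv _ _).symm b₁) ≫ (adjI.homEquiv _ _).symm b₂ := by
    apply (adjIF.homEquiv _ _).injective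
    rw [Adjunction.homEquiv_naturality_right, Equiv.apply_symm_apply,
      Adjunction.homEquiv_naturality_right, Adjunction.homEquiv_leftAdjointUniq_hom_app,
      ← Adjunction.homEquiv_unit, Adjunction.homEquiv_ofNatIsoRight_apply,
      Adjunction.comp_homEquiv]
    dsimp only [Equiv.trans_apply]
    rw [Adjunction.homEquiv_naturality_left, Equiv.apply_symm_apply,
      Adjunction.homEquiv_naturality_right, Equiv.apply_symm_apply, Category.assoc]
    have hp' : b₃ ≫ IFs.map u = (b₁ ≫ Fs.map b₂) ≫ γ.hom.app R := by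
      rw [← hp, Category.assoc, Category.assoc, Iso.inv_hom_id_app, Category.comp_id]
    rw [hp', Category.assoc]
  have hiso : IsIso (δ.hom.app P ≫ Li.map ((adjF.homEquiv _ _).symm b₁) ≫
      (adjI.homEquiv _ _).symm b₂) := inferInstance
  rw [← key] at hiso
  exact IsIso.of_isIso_comp_right _ u

end Groth.Agent.Lib.Helper5.RDerPaste
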