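import Mathlib
import Groth.Prelude.Def_EtBC2
import Groth.Agent.Lib.Helper5.RDerPaste.Paste2
import Groth.Agent.Lib.Helper5.RDerPaste.Transpose
import Groth.Agent.Lib.Helper5.RDerPaste.Coh

/-!
# Vertical composition of the étale base change maps `bcQ` (helper5)
-/

set_option autoImplicit false
universe u
open CategoryTheory CategoryTheory.Limits AlgebraicGeometry Opposite

namespace Groth.Agent.Lib.Helper5.RDerPaste

open EtCoh

lemma bcQAdj_eq_bcAdj {X S X' S' : Scheme.{u}} (f : X ⟶ S) (g : S' ⟶ S) (f' : X' ⟶ S')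
    (g' : X' ⟶ X) (w : g' ≫ f = f' ≫ g) (q : ℕ) [PreservesFiniteLimits (EtCoh.pull g')]
    (F : EtCoh.Ab X) :
    EtBC.bcQAdj f g f' g' w q F =
      bcAdj (push f) (push g') (push f') (push g) (pullPushAdj g')
        (pushComp f g' ≪≫ pushCongr w ≪≫ (pushComp g f').symm) q F := rfl

theorem bcQ_isIso_vcomp {X S Y T W Z : Scheme.{u}} (f : X ⟶ S) (g : T ⟶ S) (h : Y ⟶ X)
    (e : Y ⟶ T) (w : e ≫ g = h ≫ f) (i : W ⟶ X) (j : Z ⟶ W) (k : Z ⟶ Y) (w' : k ≫ h = j ≫ i)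
    (w'' : (k ≫ e) ≫ g = j ≫ (i ≫ f))
    [PreservesFiniteLimits (EtCoh.pull e)] [PreservesFiniteLimits (EtCoh.pull k)]
    [PreservesFiniteLimits (EtCoh.pull (k ≫ e))] (F : EtCoh.Ab T) (q : ℕ)
    (h1 : IsIso (EtBC.bcQ g f h e w q F))
    (h2 : IsIso (EtBC.bcQ h i j k w' q ((EtCoh.pull e).obj F))) :
    IsIso (EtBC.bcQ g (i ≫ f) j (k ≫ e) w'' q F) := by
  let adj' : pull e ⋙ pull k ⊣ push (k ≫ e) :=
    ((pullPushAdj e).comp (pullPushAdj k)).ofNatIsoRight (pushComp e k)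
  let κ : pull (k ≫ e) ≅ pull e ⋙ pull k := (pullPushAdj (k ≫ e)).leftAdjointUniq adj'
  let κF : (pull (k ≫ e)).obj F ⟶ (pull k).obj ((pull e).obj F) := κ.hom.app F
  haveI : IsIso κF := inferInstanceAs (IsIso (κ.hom.app F))
  have hC1 : (pullPushAdj (k ≫ e)).unit.app F ≫ (push (k ≫ e)).map κF =
      (pullPushAdj e).unit.app F ≫ (push e).map ((pullPushAdj k).unit.app ((pull e).obj F)) ≫
        (pushComp e k).hom.app ((pull k).obj ((pull e).obj F)) := by
    have := Adjunction.unit_leftAdjointUniq_hom_app (pullPushAdj (k ≫ e)) adj' F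
    refine this.trans ?_
    simp [adj']
  have hp := bcAdj_paste (push g) (push f) (push h) (push e) (push i) (push j) (push k)
    (push (k ≫ e)) (push (i ≫ f)) (pullPushAdj e) (pullPushAdj k) (pullPushAdj (k ≫ e))
    (pushComp g e ≪≫ pushCongr w ≪≫ (pushComp f h).symm)
    (pushComp h k ≪≫ pushCongr w' ≪≫ (pushComp i j).symm)
    (pushComp g (k ≫ e) ≪≫ pushCongr w'' ≪≫ (pushComp (i ≫ f) j).symm)
    (pushComp e k) (pushComp f i) q F κF hC1 (fun M => c2 f g h e w i j k w' w'' M)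
  exact isIso_of_paste (pullPushAdj f) (pullPushAdj i) (pullPushAdj (i ≫ f)) (pushComp f i)
    (EtBC.bcQAdj g f h e w q F) (EtBC.bcQAdj h i j k w' q ((EtCoh.pull e).obj F))
    (EtBC.bcQAdj g (i ≫ f) j (k ≫ e) w'' q F) (((push j).rightDerived q).map κF) hp h1 h2

end Groth.Agent.Lib.Helper5.RDerPaste
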